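import Cfsg.Agent.OD.Pre
import Cfsg.Agent.H6.TCTop
import Cfsg.Agent.H6.HeT1.D0
set_option autoImplicit false
set_option maxRecDepth 100000
set_option Elab.async false
set_option linter.all false
namespace CfH6.HeT1
open CfH6
noncomputable def tab0 : Tr := (Tr.n (Tr.n (Tr.n (Tr.n t0 t1) (Tr.n t2 t3)) (Tr.n (Tr.n t4 t5) (Tr.n t6 t7))) (Tr.n (Tr.n (Tr.n t8 t9) (Tr.n t10 t11)) (Tr.n (Tr.n t12 t13) (Tr.n t14 t15))))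
noncomputable def tab1 : Tr := (Tr.n (Tr.n (Tr.n (Tr.n t16 t17) (Tr.n t18 t19)) (Tr.n (Tr.n t20 t21) (Tr.n t22 t23))) (Tr.n (Tr.n (Tr.n t24 t25) (Tr.n t26 t27)) (Tr.n (Tr.n t28 t29) (Tr.n t30 t31))))
noncomputable def tab2 : Tr := (Tr.n (Tr.n (Tr.n (Tr.n t32 t33) (Tr.n t34 t35)) (Tr.n (Tr.n t36 t37) (Tr.n t38 t39))) (Tr.n (Tr.n (Tr.n t40 t41) (Tr.n t42 t43)) (Tr.n (Tr.n t44 t45) (Tr.n t46 t47))))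
noncomputable def tab3 : Tr := (Tr.n (Tr.n (Tr.n (Tr.n t48 t49) (Tr.n t50 t51)) (Tr.n (Tr.n t52 t53) (Tr.n t54 t55))) (Tr.n (Tr.n (Tr.n t56 t57) (Tr.n t58 t59)) (Tr.n (Tr.n t60 t61) (Tr.n t62 t63))))
noncomputable def tab4 : Tr := (Tr.n (Tr.n (Tr.n (Tr.n t64 t65) (Tr.n t66 t67)) (Tr.n (Tr.n t68 t69) (Tr.n t70 t71))) (Tr.n (Tr.n (Tr.n t72 t73) (Tr.n t74 t75)) (Tr.n (Tr.n t76 t77) (Tr.n t78 t79))))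
noncomputable def tab5 : Tr := (Tr.n (Tr.n (Tr.n (Tr.n t80 t81) (Tr.n t82 t83)) (Tr.n (Tr.n t84 t85) (Tr.n t86 t87))) (Tr.n (Tr.n (Tr.n t88 t89) (Tr.n t90 t91)) (Tr.n (Tr.n t92 t93) (Tr.n t94 t95))))
noncomputable def tab6 : Tr := (Tr.n (Tr.n (Tr.n (Tr.n t96 t97) (Tr.n t98 t99)) (Tr.n (Tr.n t100 t101) (Tr.n t102 t103))) (Tr.n (Tr.n (Tr.n t104 t105) (Tr.n t106 t107)) (Tr.n (Tr.n t108 t109) (Tr.n t110 t111))))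
noncomputable def tab7 : Tr := (Tr.n (Tr.n (Tr.n (Tr.l (nat_lit 0)) (Tr.n t112 (Tr.l (nat_lit 0)))) (Tr.l (nat_lit 0))) (Tr.n (Tr.n (Tr.l (nat_lit 0)) (Tr.n t113 (Tr.l (nat_lit 0)))) (Tr.n (Tr.n t114 (Tr.l (nat_lit 0))) (Tr.l (nat_lit 0)))))
noncomputable def tab8 : Tr := (Tr.n (Tr.n (Tr.n (Tr.n t115 t116) (Tr.n t117 t118)) (Tr.n (Tr.n t119 t120) (Tr.n t121 t122))) (Tr.n (Tr.n (Tr.n t123 t124) (Tr.n t125 t126)) (Tr.n (Tr.n t127 t128) (Tr.n t129 t130))))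
noncomputable def tab9 : Tr := (Tr.n (Tr.n (Tr.n (Tr.n t131 t132) (Tr.n t133 t134)) (Tr.n (Tr.n t135 t136) (Tr.n t137 t138))) (Tr.n (Tr.n (Tr.n t139 t140) (Tr.n t141 t142)) (Tr.n (Tr.n (Tr.l (nat_lit 0)) t143) (Tr.n t144 t145))))
noncomputable def tab10 : Tr := (Tr.n (Tr.n (Tr.n (Tr.n t146 t147) (Tr.n t148 t149)) (Tr.n (Tr.n t150 t151) (Tr.n t152 t153))) (Tr.n (Tr.n (Tr.n t154 t155) (Tr.n t156 t157)) (Tr.n (Tr.n t158 t159) (Tr.n t160 t161))))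
noncomputable def tab11 : Tr := (Tr.n (Tr.n (Tr.n (Tr.n t162 t163) (Tr.n t164 t165)) (Tr.n (Tr.n t166 t167) (Tr.n t168 t169))) (Tr.n (Tr.n (Tr.n t170 t171) (Tr.n t172 t173)) (Tr.n (Tr.n t174 t175) (Tr.n t176 t177))))
noncomputable def tab12 : Tr := (Tr.n (Tr.n (Tr.n (Tr.n t178 t179) (Tr.n t180 t181)) (Tr.n (Tr.n t182 t183) (Tr.n t184 t185))) (Tr.n (Tr.n (Tr.n t186 t187) (Tr.n t188 t189)) (Tr.n (Tr.n t190 t191) (Tr.n t192 t193))))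
noncomputable def tab13 : Tr := (Tr.n (Tr.n (Tr.n (Tr.n t194 t195) (Tr.n t196 t197)) (Tr.n (Tr.n t198 t199) (Tr.n t200 t201))) (Tr.n (Tr.n (Tr.n t202 t203) (Tr.n t204 t205)) (Tr.n (Tr.n t206 t207) (Tr.n t208 t209))))
noncomputable def tab14 : Tr := (Tr.n (Tr.n (Tr.n (Tr.n (Tr.l (nat_lit 0)) t210) (Tr.n t211 t212)) (Tr.n (Tr.n t213 t214) (Tr.n t215 t216))) (Tr.n (Tr.n (Tr.n t217 t218) (Tr.n t219 t220)) (Tr.n (Tr.n t221 t222) (Tr.n t223 t224))))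
noncomputable def tab15 : Tr := (Tr.n (Tr.n (Tr.n (Tr.n t225 t226) (Tr.n t227 t228)) (Tr.n (Tr.n t229 t230) (Tr.n t231 t232))) (Tr.n (Tr.n (Tr.n t233 t234) (Tr.n t235 t236)) (Tr.n (Tr.n t237 t238) (Tr.n t239 t240))))
noncomputable def tab16 : Tr := (Tr.n (Tr.n (Tr.n (Tr.l (nat_lit 0)) (Tr.n t241 (Tr.l (nat_lit 0)))) (Tr.l (nat_lit 0))) (Tr.n (Tr.l (nat_lit 0)) (Tr.n (Tr.n t242 (Tr.l (nat_lit 0))) (Tr.l (nat_lit 0)))))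
noncomputable def ty0 : TT := (TT.n (TT.n (TT.n (TT.n (TT.n (TT.l (Ty.ssub [] []))
 (TT.l (Ty.srel [nat_lit 3, nat_lit 0, nat_lit 3])))
 (TT.n (TT.l (Ty.rel3 (nat_lit 6) (nat_lit 0) (nat_lit 6)))
 (TT.l (Ty.srel [nat_lit 2, nat_lit 1, nat_lit 0, nat_lit 2, nat_lit 1, nat_lit 0, nat_lit 4, nat_lit 2, nat_lit 1]))))
 (TT.n (TT.n (TT.l (Ty.rel3 (nat_lit 2) (nat_lit 0) (nat_lit 2)))
 (TT.l (Ty.srel [nat_lit 2, nat_lit 0, nat_lit 2])))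
 (TT.l (Ty.srel [nat_lit 4, nat_lit 0, nat_lit 4]))))
 (TT.n (TT.n (TT.n (TT.l (Ty.dfn))
 (TT.l (Ty.relL (nat_lit 3) [nat_lit 2, nat_lit 3, nat_lit 2, nat_lit 3, nat_lit 2, nat_lit 3, nat_lit 2, nat_lit 3, nat_lit 2])))
 (TT.l (Ty.relL (nat_lit 4) [nat_lit 2, nat_lit 1, nat_lit 0, nat_lit 2, nat_lit 1, nat_lit 0, nat_lit 2, nat_lit 1])))
 (TT.n (TT.n (TT.l (Ty.rel3 (nat_lit 4) (nat_lit 0) (nat_lit 4)))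
 (TT.l (Ty.srel [nat_lit 1, nat_lit 0, nat_lit 1, nat_lit 0, nat_lit 1, nat_lit 0, nat_lit 1])))
 (TT.l (Ty.srel [nat_lit 5, nat_lit 0, nat_lit 5])))))
 (TT.n (TT.n (TT.n (TT.n (TT.l (Ty.rel1 (nat_lit 0)))
 (TT.l (Ty.relL (nat_lit 1) [nat_lit 2, nat_lit 0, nat_lit 1, nat_lit 2, nat_lit 0, nat_lit 1, nat_lit 2, nat_lit 4])))
 (TT.n (TT.l (Ty.relL (nat_lit 2) [nat_lit 1, nat_lit 0, nat_lit 2, nat_lit 1, nat_lit 0, nat_lit 4, nat_lit 2, nat_lit 1]))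
 (TT.l (Ty.skip))))
 (TT.n (TT.n (TT.l (Ty.rel3 (nat_lit 3) (nat_lit 0) (nat_lit 3)))
 (TT.l (Ty.srel [nat_lit 2, nat_lit 3, nat_lit 2, nat_lit 3, nat_lit 2, nat_lit 3, nat_lit 2, nat_lit 3, nat_lit 2, nat_lit 3])))
 (TT.l (Ty.srel [nat_lit 6, nat_lit 0, nat_lit 6]))))
 (TT.n (TT.n (TT.n (TT.l (Ty.relL (nat_lit 1) [nat_lit 0, nat_lit 1, nat_lit 0, nat_lit 1, nat_lit 0, nat_lit 1]))
 (TT.l (Ty.relL (nat_lit 1) [nat_lit 2, nat_lit 0, nat_lit 1, nat_lit 2, nat_lit 4, nat_lit 0, nat_lit 1, nat_lit 2])))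
 (TT.l (Ty.srel [nat_lit 0])))
 (TT.n (TT.n (TT.l (Ty.rel3 (nat_lit 5) (nat_lit 0) (nat_lit 5)))
 (TT.l (Ty.relL (nat_lit 2) [nat_lit 1, nat_lit 0, nat_lit 4, nat_lit 2, nat_lit 1, nat_lit 0, nat_lit 2, nat_lit 1])))
 (TT.l (Ty.relL (nat_lit 2) [nat_lit 3, nat_lit 2, nat_lit 3, nat_lit 2, nat_lit 3, nat_lit 2, nat_lit 3, nat_lit 2, nat_lit 3]))))))
noncomputable def ty1 : TT := (TT.n (TT.n (TT.n (TT.n (TT.n (TT.l (Ty.rel1 (nat_lit 1)))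
 (TT.l (Ty.relL (nat_lit 0) [nat_lit 4, nat_lit 2, nat_lit 1, nat_lit 0, nat_lit 2, nat_lit 1, nat_lit 0, nat_lit 2])))
 (TT.l (Ty.relL (nat_lit 0) [nat_lit 2, nat_lit 1, nat_lit 0, nat_lit 4, nat_lit 2, nat_lit 1, nat_lit 0, nat_lit 2])))
 (TT.n (TT.n (TT.l (Ty.rel3 (nat_lit 3) (nat_lit 1) (nat_lit 3)))
 (TT.l (Ty.srel [nat_lit 5, nat_lit 1, nat_lit 5])))
 (TT.l (Ty.srel [nat_lit 2, nat_lit 1, nat_lit 2, nat_lit 1, nat_lit 2]))))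
 (TT.n (TT.n (TT.n (TT.l (Ty.rel5 (nat_lit 2) (nat_lit 1) (nat_lit 2) (nat_lit 1) (nat_lit 2)))
 (TT.l (Ty.srel [nat_lit 3, nat_lit 1, nat_lit 3])))
 (TT.l (Ty.relL (nat_lit 2) [nat_lit 0, nat_lit 1, nat_lit 2, nat_lit 4, nat_lit 0, nat_lit 1, nat_lit 2, nat_lit 0])))
 (TT.n (TT.l (Ty.rel3 (nat_lit 5) (nat_lit 1) (nat_lit 5)))
 (TT.l (Ty.relL (nat_lit 2) [nat_lit 0, nat_lit 1, nat_lit 2, nat_lit 0, nat_lit 1, nat_lit 2, nat_lit 4, nat_lit 0])))))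
 (TT.n (TT.n (TT.n (TT.n (TT.l (Ty.dfn))
 (TT.l (Ty.srel [nat_lit 4, nat_lit 1, nat_lit 4])))
 (TT.l (Ty.relL (nat_lit 0) [nat_lit 1, nat_lit 0, nat_lit 1, nat_lit 0, nat_lit 1, nat_lit 0])))
 (TT.n (TT.n (TT.l (Ty.rel3 (nat_lit 4) (nat_lit 1) (nat_lit 4)))
 (TT.l (Ty.skip)))
 (TT.l (Ty.srel [nat_lit 1]))))
 (TT.n (TT.n (TT.n (TT.l (Ty.relL (nat_lit 0) [nat_lit 2, nat_lit 1, nat_lit 0, nat_lit 2, nat_lit 1, nat_lit 0, nat_lit 4, nat_lit 2]))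
 (TT.l (Ty.srel [nat_lit 6, nat_lit 1, nat_lit 6])))
 (TT.l (Ty.relL (nat_lit 2) [nat_lit 4, nat_lit 0, nat_lit 1, nat_lit 2, nat_lit 0, nat_lit 1, nat_lit 2, nat_lit 0])))
 (TT.n (TT.l (Ty.rel3 (nat_lit 6) (nat_lit 1) (nat_lit 6)))
 (TT.l (Ty.srel [nat_lit 0, nat_lit 1, nat_lit 0, nat_lit 1, nat_lit 0, nat_lit 1, nat_lit 0]))))))
noncomputable def ty2 : TT := (TT.n (TT.n (TT.n (TT.n (TT.n (TT.n (TT.l (Ty.ssub [] []))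
 (TT.l (Ty.relL (nat_lit 3) [nat_lit 2, nat_lit 3, nat_lit 2, nat_lit 3, nat_lit 2, nat_lit 3, nat_lit 2, nat_lit 3, nat_lit 0])))
 (TT.l (Ty.relL (nat_lit 0) [nat_lit 3, nat_lit 2, nat_lit 3, nat_lit 2, nat_lit 3, nat_lit 2, nat_lit 3, nat_lit 2, nat_lit 3])))
 (TT.n (TT.n (TT.l (Ty.relL (nat_lit 3) [nat_lit 2, nat_lit 3, nat_lit 2, nat_lit 3, nat_lit 2, nat_lit 3, nat_lit 2, nat_lit 0, nat_lit 3]))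
 (TT.l (Ty.skip)))
 (TT.l (Ty.srel [nat_lit 6, nat_lit 5, nat_lit 3, nat_lit 2, nat_lit 6, nat_lit 5, nat_lit 3, nat_lit 2, nat_lit 6, nat_lit 5, nat_lit 3, nat_lit 2, nat_lit 6, nat_lit 5, nat_lit 3]))))
 (TT.n (TT.n (TT.n (TT.l (Ty.rel5 (nat_lit 1) (nat_lit 2) (nat_lit 1) (nat_lit 2) (nat_lit 1)))
 (TT.l (Ty.relL (nat_lit 1) [nat_lit 0, nat_lit 2, nat_lit 1, nat_lit 0, nat_lit 4, nat_lit 2, nat_lit 1, nat_lit 0])))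
 (TT.l (Ty.relL (nat_lit 0) [nat_lit 1, nat_lit 2, nat_lit 0, nat_lit 1, nat_lit 2, nat_lit 4, nat_lit 0, nat_lit 1])))
 (TT.n (TT.l (Ty.srel [nat_lit 6, nat_lit 2, nat_lit 6]))
 (TT.l (Ty.srel [nat_lit 1, nat_lit 0, nat_lit 2, nat_lit 1, nat_lit 0, nat_lit 2, nat_lit 1, nat_lit 0, nat_lit 4])))))
 (TT.n (TT.n (TT.n (TT.n (TT.l (Ty.dfn))
 (TT.l (Ty.srel [nat_lit 3, nat_lit 2, nat_lit 3, nat_lit 2, nat_lit 3, nat_lit 2, nat_lit 0, nat_lit 3, nat_lit 2, nat_lit 3])))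
 (TT.l (Ty.relL (nat_lit 3) [nat_lit 2, nat_lit 0, nat_lit 3, nat_lit 2, nat_lit 3, nat_lit 2, nat_lit 3, nat_lit 2, nat_lit 3])))
 (TT.n (TT.l (Ty.srel [nat_lit 2]))
 (TT.l (Ty.srel [nat_lit 3, nat_lit 2, nat_lit 3, nat_lit 2, nat_lit 3, nat_lit 2, nat_lit 3, nat_lit 2, nat_lit 3, nat_lit 0]))))
 (TT.n (TT.n (TT.n (TT.l (Ty.rel3 (nat_lit 5) (nat_lit 2) (nat_lit 5)))
 (TT.l (Ty.srel [nat_lit 3, nat_lit 2, nat_lit 0, nat_lit 3, nat_lit 2, nat_lit 3, nat_lit 2, nat_lit 3, nat_lit 2, nat_lit 3])))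
 (TT.l (Ty.relL (nat_lit 1) [nat_lit 0, nat_lit 2, nat_lit 1, nat_lit 0, nat_lit 2, nat_lit 1, nat_lit 0, nat_lit 4])))
 (TT.n (TT.l (Ty.relL (nat_lit 3) [nat_lit 5, nat_lit 6, nat_lit 2, nat_lit 3, nat_lit 5, nat_lit 6, nat_lit 2, nat_lit 3, nat_lit 5, nat_lit 6, nat_lit 2, nat_lit 3, nat_lit 5, nat_lit 6]))
 (TT.l (Ty.srel [nat_lit 1, nat_lit 2, nat_lit 1, nat_lit 2, nat_lit 1]))))))
 (TT.n (TT.n (TT.n (TT.n (TT.n (TT.l (Ty.rel1 (nat_lit 2)))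
 (TT.l (Ty.relL (nat_lit 3) [nat_lit 2, nat_lit 3, nat_lit 2, nat_lit 3, nat_lit 0, nat_lit 2, nat_lit 3, nat_lit 2, nat_lit 3])))
 (TT.l (Ty.relL (nat_lit 3) [nat_lit 2, nat_lit 3, nat_lit 2, nat_lit 0, nat_lit 3, nat_lit 2, nat_lit 3, nat_lit 2, nat_lit 3])))
 (TT.n (TT.l (Ty.rel3 (nat_lit 0) (nat_lit 2) (nat_lit 0)))
 (TT.l (Ty.srel [nat_lit 0, nat_lit 2, nat_lit 0]))))
 (TT.n (TT.n (TT.n (TT.l (Ty.rel3 (nat_lit 4) (nat_lit 2) (nat_lit 4)))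
 (TT.l (Ty.relL (nat_lit 0) [nat_lit 1, nat_lit 2, nat_lit 4, nat_lit 0, nat_lit 1, nat_lit 2, nat_lit 0, nat_lit 1])))
 (TT.l (Ty.srel [nat_lit 0, nat_lit 3, nat_lit 2, nat_lit 3, nat_lit 2, nat_lit 3, nat_lit 2, nat_lit 3, nat_lit 2, nat_lit 3])))
 (TT.n (TT.l (Ty.relL (nat_lit 6) [nat_lit 5, nat_lit 3, nat_lit 2, nat_lit 6, nat_lit 5, nat_lit 3, nat_lit 2, nat_lit 6, nat_lit 5, nat_lit 3, nat_lit 2, nat_lit 6, nat_lit 5, nat_lit 3]))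
 (TT.l (Ty.srel [nat_lit 3, nat_lit 5, nat_lit 6, nat_lit 2, nat_lit 3, nat_lit 5, nat_lit 6, nat_lit 2, nat_lit 3, nat_lit 5, nat_lit 6, nat_lit 2, nat_lit 3, nat_lit 5, nat_lit 6])))))
 (TT.n (TT.n (TT.n (TT.n (TT.l (Ty.relL (nat_lit 4) [nat_lit 0, nat_lit 1, nat_lit 2, nat_lit 0, nat_lit 1, nat_lit 2, nat_lit 0, nat_lit 1]))
 (TT.l (Ty.relL (nat_lit 3) [nat_lit 0, nat_lit 2, nat_lit 3, nat_lit 2, nat_lit 3, nat_lit 2, nat_lit 3, nat_lit 2, nat_lit 3])))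
 (TT.l (Ty.srel [nat_lit 4, nat_lit 2, nat_lit 4])))
 (TT.n (TT.l (Ty.srel [nat_lit 5, nat_lit 2, nat_lit 5]))
 (TT.l (Ty.srel [nat_lit 1, nat_lit 0, nat_lit 2, nat_lit 1, nat_lit 0, nat_lit 4, nat_lit 2, nat_lit 1, nat_lit 0]))))
 (TT.n (TT.n (TT.n (TT.l (Ty.rel3 (nat_lit 6) (nat_lit 2) (nat_lit 6)))
 (TT.l (Ty.relL (nat_lit 3) [nat_lit 2, nat_lit 3, nat_lit 0, nat_lit 2, nat_lit 3, nat_lit 2, nat_lit 3, nat_lit 2, nat_lit 3])))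
 (TT.l (Ty.srel [nat_lit 3, nat_lit 2, nat_lit 3, nat_lit 2, nat_lit 3, nat_lit 2, nat_lit 3, nat_lit 2, nat_lit 0, nat_lit 3])))
 (TT.n (TT.l (Ty.relL (nat_lit 3) [nat_lit 2, nat_lit 3, nat_lit 2, nat_lit 3, nat_lit 2, nat_lit 0, nat_lit 3, nat_lit 2, nat_lit 3]))
 (TT.l (Ty.srel [nat_lit 1, nat_lit 0, nat_lit 4, nat_lit 2, nat_lit 1, nat_lit 0, nat_lit 2, nat_lit 1, nat_lit 0])))))))
noncomputable def ty3 : TT := (TT.n (TT.n (TT.n (TT.n (TT.n (TT.l (Ty.ssub [] []))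
 (TT.l (Ty.srel [nat_lit 1, nat_lit 3, nat_lit 1])))
 (TT.n (TT.l (Ty.relL (nat_lit 2) [nat_lit 6, nat_lit 5, nat_lit 3, nat_lit 2, nat_lit 6, nat_lit 5, nat_lit 3, nat_lit 2, nat_lit 6, nat_lit 5, nat_lit 3, nat_lit 2, nat_lit 6, nat_lit 5]))
 (TT.l (Ty.relL (nat_lit 0) [nat_lit 2, nat_lit 3, nat_lit 2, nat_lit 3, nat_lit 2, nat_lit 3, nat_lit 2, nat_lit 3, nat_lit 2]))))
 (TT.n (TT.n (TT.l (Ty.dfn))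
 (TT.l (Ty.srel [nat_lit 4, nat_lit 3, nat_lit 4, nat_lit 3, nat_lit 4])))
 (TT.n (TT.l (Ty.relL (nat_lit 2) [nat_lit 3, nat_lit 2, nat_lit 3, nat_lit 2, nat_lit 3, nat_lit 2, nat_lit 0, nat_lit 3, nat_lit 2]))
 (TT.l (Ty.relL (nat_lit 2) [nat_lit 3, nat_lit 0, nat_lit 2, nat_lit 3, nat_lit 2, nat_lit 3, nat_lit 2, nat_lit 3, nat_lit 2])))))
 (TT.n (TT.n (TT.n (TT.l (Ty.rel3 (nat_lit 0) (nat_lit 3) (nat_lit 0)))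
 (TT.l (Ty.relL (nat_lit 2) [nat_lit 0, nat_lit 3, nat_lit 2, nat_lit 3, nat_lit 2, nat_lit 3, nat_lit 2, nat_lit 3, nat_lit 2])))
 (TT.n (TT.l (Ty.srel [nat_lit 3]))
 (TT.l (Ty.srel [nat_lit 2, nat_lit 3, nat_lit 2, nat_lit 3, nat_lit 2, nat_lit 3, nat_lit 2, nat_lit 3, nat_lit 2, nat_lit 0]))))
 (TT.n (TT.n (TT.l (Ty.rel5 (nat_lit 5) (nat_lit 3) (nat_lit 5) (nat_lit 3) (nat_lit 5)))
 (TT.l (Ty.srel [nat_lit 2, nat_lit 3, nat_lit 2, nat_lit 3, nat_lit 2, nat_lit 3, nat_lit 2, nat_lit 0, nat_lit 3, nat_lit 2])))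
 (TT.n (TT.l (Ty.srel [nat_lit 2, nat_lit 6, nat_lit 5, nat_lit 3, nat_lit 2, nat_lit 6, nat_lit 5, nat_lit 3, nat_lit 2, nat_lit 6, nat_lit 5, nat_lit 3, nat_lit 2, nat_lit 6, nat_lit 5]))
 (TT.l (Ty.skip))))))
 (TT.n (TT.n (TT.n (TT.n (TT.l (Ty.rel3 (nat_lit 1) (nat_lit 3) (nat_lit 1)))
 (TT.l (Ty.relL (nat_lit 2) [nat_lit 3, nat_lit 2, nat_lit 3, nat_lit 2, nat_lit 3, nat_lit 2, nat_lit 3, nat_lit 2, nat_lit 0])))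
 (TT.n (TT.l (Ty.relL (nat_lit 5) [nat_lit 6, nat_lit 2, nat_lit 3, nat_lit 5, nat_lit 6, nat_lit 2, nat_lit 3, nat_lit 5, nat_lit 6, nat_lit 2, nat_lit 3, nat_lit 5, nat_lit 6, nat_lit 2]))
 (TT.l (Ty.relL (nat_lit 2) [nat_lit 3, nat_lit 2, nat_lit 3, nat_lit 2, nat_lit 3, nat_lit 0, nat_lit 2, nat_lit 3, nat_lit 2]))))
 (TT.n (TT.n (TT.l (Ty.rel5 (nat_lit 4) (nat_lit 3) (nat_lit 4) (nat_lit 3) (nat_lit 4)))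
 (TT.l (Ty.relL (nat_lit 2) [nat_lit 3, nat_lit 2, nat_lit 3, nat_lit 2, nat_lit 0, nat_lit 3, nat_lit 2, nat_lit 3, nat_lit 2])))
 (TT.n (TT.l (Ty.srel [nat_lit 6, nat_lit 3, nat_lit 6, nat_lit 3, nat_lit 6]))
 (TT.l (Ty.relL (nat_lit 2) [nat_lit 3, nat_lit 2, nat_lit 3, nat_lit 2, nat_lit 3, nat_lit 2, nat_lit 3, nat_lit 0, nat_lit 2])))))
 (TT.n (TT.n (TT.n (TT.l (Ty.rel1 (nat_lit 3)))
 (TT.l (Ty.srel [nat_lit 5, nat_lit 6, nat_lit 2, nat_lit 3, nat_lit 5, nat_lit 6, nat_lit 2, nat_lit 3, nat_lit 5, nat_lit 6, nat_lit 2, nat_lit 3, nat_lit 5, nat_lit 6, nat_lit 2])))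
 (TT.n (TT.l (Ty.relL (nat_lit 2) [nat_lit 3, nat_lit 2, nat_lit 0, nat_lit 3, nat_lit 2, nat_lit 3, nat_lit 2, nat_lit 3, nat_lit 2]))
 (TT.l (Ty.srel [nat_lit 0, nat_lit 3, nat_lit 0]))))
 (TT.n (TT.n (TT.l (Ty.rel5 (nat_lit 6) (nat_lit 3) (nat_lit 6) (nat_lit 3) (nat_lit 6)))
 (TT.l (Ty.srel [nat_lit 2, nat_lit 3, nat_lit 2, nat_lit 3, nat_lit 2, nat_lit 0, nat_lit 3, nat_lit 2, nat_lit 3, nat_lit 2])))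
 (TT.l (Ty.srel [nat_lit 5, nat_lit 3, nat_lit 5, nat_lit 3, nat_lit 5]))))))
noncomputable def ty4 : TT := (TT.n (TT.n (TT.n (TT.n (TT.n (TT.l (Ty.ssub [] []))
 (TT.l (Ty.srel [nat_lit 3, nat_lit 4, nat_lit 3, nat_lit 4, nat_lit 3])))
 (TT.l (Ty.relL (nat_lit 2) [nat_lit 1, nat_lit 0, nat_lit 2, nat_lit 1, nat_lit 0, nat_lit 2, nat_lit 1, nat_lit 0])))
 (TT.n (TT.n (TT.l (Ty.rel1 (nat_lit 4)))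
 (TT.l (Ty.srel [nat_lit 2, nat_lit 4, nat_lit 2])))
 (TT.l (Ty.srel [nat_lit 4]))))
 (TT.n (TT.n (TT.n (TT.l (Ty.rel3 (nat_lit 0) (nat_lit 4) (nat_lit 0)))
 (TT.l (Ty.srel [nat_lit 0, nat_lit 4, nat_lit 0])))
 (TT.l (Ty.relL (nat_lit 5) [nat_lit 6, nat_lit 5, nat_lit 6])))
 (TT.n (TT.n (TT.l (Ty.rel3 (nat_lit 5) (nat_lit 4) (nat_lit 5)))
 (TT.l (Ty.skip)))
 (TT.l (Ty.srel [nat_lit 5, nat_lit 4, nat_lit 5])))))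
 (TT.n (TT.n (TT.n (TT.n (TT.l (Ty.rel3 (nat_lit 1) (nat_lit 4) (nat_lit 1)))
 (TT.l (Ty.relL (nat_lit 0) [nat_lit 1, nat_lit 2, nat_lit 0, nat_lit 1, nat_lit 2, nat_lit 0, nat_lit 1, nat_lit 2])))
 (TT.l (Ty.rel5 (nat_lit 3) (nat_lit 4) (nat_lit 3) (nat_lit 4) (nat_lit 3))))
 (TT.n (TT.n (TT.l (Ty.dfn))
 (TT.l (Ty.srel [nat_lit 0, nat_lit 1, nat_lit 2, nat_lit 0, nat_lit 1, nat_lit 2, nat_lit 0, nat_lit 1, nat_lit 2])))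
 (TT.l (Ty.srel [nat_lit 1, nat_lit 4, nat_lit 1]))))
 (TT.n (TT.n (TT.n (TT.l (Ty.rel3 (nat_lit 2) (nat_lit 4) (nat_lit 2)))
 (TT.l (Ty.srel [nat_lit 2, nat_lit 1, nat_lit 0, nat_lit 2, nat_lit 1, nat_lit 0, nat_lit 2, nat_lit 1, nat_lit 0])))
 (TT.l (Ty.relL (nat_lit 6) [nat_lit 5, nat_lit 6, nat_lit 5])))
 (TT.n (TT.l (Ty.rel3 (nat_lit 6) (nat_lit 4) (nat_lit 6)))
 (TT.l (Ty.srel [nat_lit 6, nat_lit 4, nat_lit 6]))))))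
noncomputable def ty5 : TT := (TT.n (TT.n (TT.n (TT.n (TT.n (TT.l (Ty.ssub [] []))
 (TT.l (Ty.srel [nat_lit 3, nat_lit 5, nat_lit 3, nat_lit 5, nat_lit 3])))
 (TT.n (TT.l (Ty.rel3 (nat_lit 4) (nat_lit 5) (nat_lit 4)))
 (TT.l (Ty.srel [nat_lit 6, nat_lit 4, nat_lit 5, nat_lit 6]))))
 (TT.n (TT.n (TT.l (Ty.rel1 (nat_lit 5)))
 (TT.l (Ty.srel [nat_lit 2, nat_lit 5, nat_lit 2])))
 (TT.l (Ty.relL (nat_lit 6) [nat_lit 4, nat_lit 5, nat_lit 6]))))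
 (TT.n (TT.n (TT.n (TT.l (Ty.rel3 (nat_lit 0) (nat_lit 5) (nat_lit 0)))
 (TT.l (Ty.srel [nat_lit 1, nat_lit 5, nat_lit 1])))
 (TT.l (Ty.relL (nat_lit 6) [nat_lit 5, nat_lit 6, nat_lit 4])))
 (TT.n (TT.n (TT.l (Ty.relL (nat_lit 6) [nat_lit 5, nat_lit 4, nat_lit 6]))
 (TT.l (Ty.srel [nat_lit 0, nat_lit 5, nat_lit 0])))
 (TT.l (Ty.srel [nat_lit 6, nat_lit 2, nat_lit 3, nat_lit 5, nat_lit 6, nat_lit 2, nat_lit 3, nat_lit 5, nat_lit 6, nat_lit 2, nat_lit 3, nat_lit 5, nat_lit 6, nat_lit 2, nat_lit 3])))))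
 (TT.n (TT.n (TT.n (TT.n (TT.l (Ty.rel3 (nat_lit 1) (nat_lit 5) (nat_lit 1)))
 (TT.l (Ty.relL (nat_lit 3) [nat_lit 2, nat_lit 6, nat_lit 5, nat_lit 3, nat_lit 2, nat_lit 6, nat_lit 5, nat_lit 3, nat_lit 2, nat_lit 6, nat_lit 5, nat_lit 3, nat_lit 2, nat_lit 6])))
 (TT.n (TT.l (Ty.srel [nat_lit 5]))
 (TT.l (Ty.skip))))
 (TT.n (TT.n (TT.l (Ty.dfn))
 (TT.l (Ty.srel [nat_lit 3, nat_lit 2, nat_lit 6, nat_lit 5, nat_lit 3, nat_lit 2, nat_lit 6, nat_lit 5, nat_lit 3, nat_lit 2, nat_lit 6, nat_lit 5, nat_lit 3, nat_lit 2, nat_lit 6])))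
 (TT.l (Ty.relL (nat_lit 6) [nat_lit 2, nat_lit 3, nat_lit 5, nat_lit 6, nat_lit 2, nat_lit 3, nat_lit 5, nat_lit 6, nat_lit 2, nat_lit 3, nat_lit 5, nat_lit 6, nat_lit 2, nat_lit 3]))))
 (TT.n (TT.n (TT.n (TT.l (Ty.rel3 (nat_lit 2) (nat_lit 5) (nat_lit 2)))
 (TT.l (Ty.srel [nat_lit 4, nat_lit 5, nat_lit 4])))
 (TT.l (Ty.relL (nat_lit 4) [nat_lit 6, nat_lit 5, nat_lit 6])))
 (TT.n (TT.n (TT.l (Ty.rel5 (nat_lit 3) (nat_lit 5) (nat_lit 3) (nat_lit 5) (nat_lit 3)))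
 (TT.l (Ty.srel [nat_lit 6, nat_lit 5, nat_lit 6, nat_lit 4])))
 (TT.l (Ty.srel [nat_lit 6, nat_lit 5, nat_lit 4, nat_lit 6]))))))
noncomputable def ty6 : TT := (TT.n (TT.n (TT.n (TT.n (TT.n (TT.l (Ty.ssub [] []))
 (TT.l (Ty.srel [nat_lit 5, nat_lit 6, nat_lit 4, nat_lit 5])))
 (TT.n (TT.l (Ty.rel3 (nat_lit 4) (nat_lit 6) (nat_lit 4)))
 (TT.l (Ty.skip))))
 (TT.n (TT.n (TT.l (Ty.rel1 (nat_lit 6)))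
 (TT.l (Ty.srel [nat_lit 2, nat_lit 3, nat_lit 5, nat_lit 6, nat_lit 2, nat_lit 3, nat_lit 5, nat_lit 6, nat_lit 2, nat_lit 3, nat_lit 5, nat_lit 6, nat_lit 2, nat_lit 3, nat_lit 5])))
 (TT.l (Ty.relL (nat_lit 4) [nat_lit 5, nat_lit 6, nat_lit 5]))))
 (TT.n (TT.n (TT.n (TT.l (Ty.rel3 (nat_lit 0) (nat_lit 6) (nat_lit 0)))
 (TT.l (Ty.srel [nat_lit 4, nat_lit 6, nat_lit 4])))
 (TT.l (Ty.srel [nat_lit 6])))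
 (TT.n (TT.n (TT.l (Ty.relL (nat_lit 5) [nat_lit 4, nat_lit 6, nat_lit 5]))
 (TT.l (Ty.srel [nat_lit 5, nat_lit 3, nat_lit 2, nat_lit 6, nat_lit 5, nat_lit 3, nat_lit 2, nat_lit 6, nat_lit 5, nat_lit 3, nat_lit 2, nat_lit 6, nat_lit 5, nat_lit 3, nat_lit 2])))
 (TT.l (Ty.srel [nat_lit 5, nat_lit 4, nat_lit 6, nat_lit 5])))))
 (TT.n (TT.n (TT.n (TT.n (TT.l (Ty.rel3 (nat_lit 1) (nat_lit 6) (nat_lit 1)))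
 (TT.l (Ty.srel [nat_lit 1, nat_lit 6, nat_lit 1])))
 (TT.l (Ty.relL (nat_lit 5) [nat_lit 6, nat_lit 5, nat_lit 4])))
 (TT.n (TT.n (TT.l (Ty.dfn))
 (TT.l (Ty.srel [nat_lit 2, nat_lit 6, nat_lit 2])))
 (TT.l (Ty.relL (nat_lit 5) [nat_lit 3, nat_lit 2, nat_lit 6, nat_lit 5, nat_lit 3, nat_lit 2, nat_lit 6, nat_lit 5, nat_lit 3, nat_lit 2, nat_lit 6, nat_lit 5, nat_lit 3, nat_lit 2]))))
 (TT.n (TT.n (TT.n (TT.l (Ty.rel3 (nat_lit 2) (nat_lit 6) (nat_lit 2)))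
 (TT.l (Ty.srel [nat_lit 3, nat_lit 6, nat_lit 3, nat_lit 6, nat_lit 3])))
 (TT.l (Ty.relL (nat_lit 2) [nat_lit 3, nat_lit 5, nat_lit 6, nat_lit 2, nat_lit 3, nat_lit 5, nat_lit 6, nat_lit 2, nat_lit 3, nat_lit 5, nat_lit 6, nat_lit 2, nat_lit 3, nat_lit 5])))
 (TT.n (TT.n (TT.l (Ty.rel5 (nat_lit 3) (nat_lit 6) (nat_lit 3) (nat_lit 6) (nat_lit 3)))
 (TT.l (Ty.srel [nat_lit 5, nat_lit 6, nat_lit 5, nat_lit 4])))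
 (TT.l (Ty.relL (nat_lit 5) [nat_lit 6, nat_lit 4, nat_lit 5]))))))
noncomputable def ty7 : TT := (TT.n (TT.n (TT.n (TT.n (TT.n (TT.n (TT.n (TT.l (Ty.skip))
 (TT.l (Ty.srel [nat_lit 0, nat_lit 2, nat_lit 0, nat_lit 2])))
 (TT.l (Ty.srel [nat_lit 2, nat_lit 0, nat_lit 1, nat_lit 2, nat_lit 0, nat_lit 1, nat_lit 2, nat_lit 4, nat_lit 0, nat_lit 1])))
 (TT.n (TT.n (TT.l (Ty.relL (nat_lit 2) [nat_lit 1, nat_lit 0, nat_lit 2, nat_lit 1, nat_lit 0, nat_lit 2, nat_lit 1, nat_lit 0, nat_lit 4]))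
 (TT.l (Ty.relL (nat_lit 6) [nat_lit 3, nat_lit 6, nat_lit 3, nat_lit 6, nat_lit 3])))
 (TT.l (Ty.relL (nat_lit 4) [nat_lit 6, nat_lit 4, nat_lit 6]))))
 (TT.n (TT.n (TT.n (TT.l (Ty.relL (nat_lit 3) [nat_lit 4, nat_lit 3, nat_lit 4, nat_lit 3, nat_lit 4]))
 (TT.l (Ty.srel [nat_lit 2, nat_lit 3, nat_lit 0, nat_lit 2, nat_lit 3, nat_lit 2, nat_lit 3, nat_lit 2, nat_lit 3, nat_lit 2, nat_lit 3])))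
 (TT.l (Ty.relL (nat_lit 4) [nat_lit 2, nat_lit 4, nat_lit 2])))
 (TT.n (TT.l (Ty.relL (nat_lit 6) [nat_lit 5, nat_lit 3, nat_lit 2, nat_lit 6, nat_lit 5, nat_lit 3, nat_lit 2, nat_lit 6, nat_lit 5, nat_lit 3, nat_lit 2, nat_lit 6, nat_lit 5, nat_lit 3, nat_lit 2]))
 (TT.l (Ty.srel [nat_lit 5, nat_lit 6, nat_lit 2, nat_lit 3, nat_lit 5, nat_lit 6, nat_lit 2, nat_lit 3, nat_lit 5, nat_lit 6, nat_lit 2, nat_lit 3, nat_lit 5, nat_lit 6, nat_lit 2, nat_lit 3])))))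
 (TT.n (TT.n (TT.n (TT.n (TT.l (Ty.relL (nat_lit 3) [nat_lit 5, nat_lit 3, nat_lit 5, nat_lit 3, nat_lit 5]))
 (TT.l (Ty.srel [nat_lit 2, nat_lit 6, nat_lit 5, nat_lit 3, nat_lit 2, nat_lit 6, nat_lit 5, nat_lit 3, nat_lit 2, nat_lit 6, nat_lit 5, nat_lit 3, nat_lit 2, nat_lit 6, nat_lit 5, nat_lit 3])))
 (TT.l (Ty.relL (nat_lit 2) [nat_lit 6, nat_lit 2, nat_lit 6])))
 (TT.n (TT.l (Ty.srel [nat_lit 6, nat_lit 2, nat_lit 3, nat_lit 5, nat_lit 6, nat_lit 2, nat_lit 3, nat_lit 5, nat_lit 6, nat_lit 2, nat_lit 3, nat_lit 5, nat_lit 6, nat_lit 2, nat_lit 3, nat_lit 5]))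
 (TT.l (Ty.relL (nat_lit 2) [nat_lit 1, nat_lit 0, nat_lit 4, nat_lit 2, nat_lit 1, nat_lit 0, nat_lit 2, nat_lit 1, nat_lit 0]))))
 (TT.n (TT.n (TT.n (TT.l (Ty.relL (nat_lit 3) [nat_lit 5, nat_lit 6, nat_lit 2, nat_lit 3, nat_lit 5, nat_lit 6, nat_lit 2, nat_lit 3, nat_lit 5, nat_lit 6, nat_lit 2, nat_lit 3, nat_lit 5, nat_lit 6, nat_lit 2]))
 (TT.l (Ty.relL (nat_lit 2) [nat_lit 3, nat_lit 2, nat_lit 3, nat_lit 0, nat_lit 2, nat_lit 3, nat_lit 2, nat_lit 3, nat_lit 2, nat_lit 3])))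
 (TT.l (Ty.relL (nat_lit 0) [nat_lit 5, nat_lit 0, nat_lit 5])))
 (TT.n (TT.l (Ty.relL (nat_lit 1) [nat_lit 6, nat_lit 1, nat_lit 6]))
 (TT.l (Ty.srel [nat_lit 1, nat_lit 5, nat_lit 1, nat_lit 5]))))))
 (TT.n (TT.n (TT.n (TT.n (TT.n (TT.l (Ty.rel5 (nat_lit 5) (nat_lit 4) (nat_lit 6) (nat_lit 5) (nat_lit 6)))
 (TT.l (Ty.srel [nat_lit 4, nat_lit 3, nat_lit 4, nat_lit 3, nat_lit 4, nat_lit 3])))
 (TT.l (Ty.srel [nat_lit 1, nat_lit 3, nat_lit 1, nat_lit 3])))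
 (TT.n (TT.n (TT.l (Ty.relL (nat_lit 5) [nat_lit 2, nat_lit 5, nat_lit 2]))
 (TT.l (Ty.relL (nat_lit 2) [nat_lit 4, nat_lit 0, nat_lit 1, nat_lit 2, nat_lit 0, nat_lit 1, nat_lit 2, nat_lit 0, nat_lit 1])))
 (TT.l (Ty.relL (nat_lit 1) [nat_lit 0, nat_lit 2, nat_lit 1, nat_lit 0, nat_lit 2, nat_lit 1, nat_lit 0, nat_lit 4, nat_lit 2]))))
 (TT.n (TT.n (TT.n (TT.l (Ty.relL (nat_lit 2) [nat_lit 3, nat_lit 2, nat_lit 3, nat_lit 2, nat_lit 0, nat_lit 3, nat_lit 2, nat_lit 3, nat_lit 2, nat_lit 3]))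
 (TT.l (Ty.srel [nat_lit 5, nat_lit 4, nat_lit 5, nat_lit 4])))
 (TT.l (Ty.relL (nat_lit 0) [nat_lit 3, nat_lit 0, nat_lit 3])))
 (TT.n (TT.l (Ty.relL (nat_lit 1) [nat_lit 2, nat_lit 0, nat_lit 1, nat_lit 2, nat_lit 0, nat_lit 1, nat_lit 2, nat_lit 4, nat_lit 0]))
 (TT.l (Ty.srel [nat_lit 6, nat_lit 2, nat_lit 6, nat_lit 2])))))
 (TT.n (TT.n (TT.n (TT.n (TT.l (Ty.relL (nat_lit 3) [nat_lit 2, nat_lit 3, nat_lit 2, nat_lit 0, nat_lit 3, nat_lit 2, nat_lit 3, nat_lit 2, nat_lit 3, nat_lit 2]))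
 (TT.l (Ty.relL (nat_lit 5) [nat_lit 0, nat_lit 5, nat_lit 0])))
 (TT.l (Ty.relL (nat_lit 3) [nat_lit 2, nat_lit 3, nat_lit 2, nat_lit 3, nat_lit 2, nat_lit 3, nat_lit 2, nat_lit 0, nat_lit 3, nat_lit 2])))
 (TT.n (TT.l (Ty.srel [nat_lit 5, nat_lit 2, nat_lit 5, nat_lit 2]))
 (TT.l (Ty.srel [nat_lit 2, nat_lit 0, nat_lit 2, nat_lit 0]))))
 (TT.n (TT.n (TT.n (TT.l (Ty.relL (nat_lit 3) [nat_lit 6, nat_lit 3, nat_lit 6, nat_lit 3, nat_lit 6]))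
 (TT.l (Ty.relL (nat_lit 4) [nat_lit 3, nat_lit 4, nat_lit 3, nat_lit 4, nat_lit 3])))
 (TT.l (Ty.relL (nat_lit 0) [nat_lit 2, nat_lit 0, nat_lit 2])))
 (TT.n (TT.l (Ty.relL (nat_lit 2) [nat_lit 3, nat_lit 2, nat_lit 0, nat_lit 3, nat_lit 2, nat_lit 3, nat_lit 2, nat_lit 3, nat_lit 2, nat_lit 3]))
 (TT.l (Ty.srel [nat_lit 1, nat_lit 6, nat_lit 1, nat_lit 6])))))))
 (TT.n (TT.n (TT.n (TT.n (TT.n (TT.n (TT.l (Ty.relL (nat_lit 4) [nat_lit 0, nat_lit 1, nat_lit 2, nat_lit 0, nat_lit 1, nat_lit 2, nat_lit 0, nat_lit 1, nat_lit 2]))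
 (TT.l (Ty.relL (nat_lit 2) [nat_lit 3, nat_lit 0, nat_lit 2, nat_lit 3, nat_lit 2, nat_lit 3, nat_lit 2, nat_lit 3, nat_lit 2, nat_lit 3])))
 (TT.l (Ty.rel5 (nat_lit 4) (nat_lit 6) (nat_lit 5) (nat_lit 6) (nat_lit 5))))
 (TT.n (TT.n (TT.l (Ty.relL (nat_lit 1) [nat_lit 2, nat_lit 1, nat_lit 2, nat_lit 1, nat_lit 2]))
 (TT.l (Ty.relL (nat_lit 3) [nat_lit 2, nat_lit 3, nat_lit 2, nat_lit 3, nat_lit 2, nat_lit 3, nat_lit 0, nat_lit 2, nat_lit 3, nat_lit 2])))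
 (TT.l (Ty.relL (nat_lit 5) [nat_lit 3, nat_lit 5, nat_lit 3, nat_lit 5, nat_lit 3]))))
 (TT.n (TT.n (TT.n (TT.l (Ty.relL (nat_lit 3) [nat_lit 2, nat_lit 3, nat_lit 2, nat_lit 3, nat_lit 0, nat_lit 2, nat_lit 3, nat_lit 2, nat_lit 3, nat_lit 2]))
 (TT.l (Ty.relL (nat_lit 6) [nat_lit 4, nat_lit 6, nat_lit 4])))
 (TT.l (Ty.relL (nat_lit 2) [nat_lit 3, nat_lit 2, nat_lit 3, nat_lit 2, nat_lit 3, nat_lit 2, nat_lit 3, nat_lit 0, nat_lit 2, nat_lit 3])))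
 (TT.n (TT.l (Ty.srel [nat_lit 2, nat_lit 1, nat_lit 0, nat_lit 2, nat_lit 1, nat_lit 0, nat_lit 4, nat_lit 2, nat_lit 1, nat_lit 0]))
 (TT.l (Ty.srel [nat_lit 3, nat_lit 4, nat_lit 3, nat_lit 4, nat_lit 3, nat_lit 4])))))
 (TT.n (TT.n (TT.n (TT.n (TT.l (Ty.relL (nat_lit 2) [nat_lit 4, nat_lit 2, nat_lit 4]))
 (TT.l (Ty.relL (nat_lit 2) [nat_lit 1, nat_lit 0, nat_lit 2, nat_lit 1, nat_lit 0, nat_lit 4, nat_lit 2, nat_lit 1, nat_lit 0])))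
 (TT.l (Ty.rel5 (nat_lit 6) (nat_lit 5) (nat_lit 6) (nat_lit 5) (nat_lit 4))))
 (TT.n (TT.l (Ty.srel [nat_lit 1, nat_lit 4, nat_lit 1, nat_lit 4]))
 (TT.l (Ty.relL (nat_lit 6) [nat_lit 1, nat_lit 6, nat_lit 1]))))
 (TT.n (TT.n (TT.n (TT.l (Ty.relL (nat_lit 2) [nat_lit 3, nat_lit 2, nat_lit 3, nat_lit 2, nat_lit 3, nat_lit 2, nat_lit 3, nat_lit 2, nat_lit 0, nat_lit 3]))
 (TT.l (Ty.srel [nat_lit 5, nat_lit 3, nat_lit 5, nat_lit 3, nat_lit 5, nat_lit 3])))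
 (TT.l (Ty.relL (nat_lit 2) [nat_lit 5, nat_lit 2, nat_lit 5])))
 (TT.n (TT.l (Ty.relL (nat_lit 1) [nat_lit 5, nat_lit 1, nat_lit 5]))
 (TT.l (Ty.rel5 (nat_lit 5) (nat_lit 6) (nat_lit 5) (nat_lit 6) (nat_lit 4)))))))
 (TT.n (TT.n (TT.n (TT.n (TT.n (TT.l (Ty.relL (nat_lit 2) [nat_lit 6, nat_lit 5, nat_lit 3, nat_lit 2, nat_lit 6, nat_lit 5, nat_lit 3, nat_lit 2, nat_lit 6, nat_lit 5, nat_lit 3, nat_lit 2, nat_lit 6, nat_lit 5, nat_lit 3]))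
 (TT.l (Ty.relL (nat_lit 2) [nat_lit 0, nat_lit 2, nat_lit 0])))
 (TT.l (Ty.relL (nat_lit 0) [nat_lit 4, nat_lit 0, nat_lit 4])))
 (TT.n (TT.l (Ty.relL (nat_lit 3) [nat_lit 2, nat_lit 6, nat_lit 5, nat_lit 3, nat_lit 2, nat_lit 6, nat_lit 5, nat_lit 3, nat_lit 2, nat_lit 6, nat_lit 5, nat_lit 3, nat_lit 2, nat_lit 6, nat_lit 5]))
 (TT.l (Ty.relL (nat_lit 6) [nat_lit 2, nat_lit 6, nat_lit 2]))))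
 (TT.n (TT.n (TT.n (TT.l (Ty.srel [nat_lit 0, nat_lit 3, nat_lit 0, nat_lit 3]))
 (TT.l (Ty.relL (nat_lit 5) [nat_lit 6, nat_lit 2, nat_lit 3, nat_lit 5, nat_lit 6, nat_lit 2, nat_lit 3, nat_lit 5, nat_lit 6, nat_lit 2, nat_lit 3, nat_lit 5, nat_lit 6, nat_lit 2, nat_lit 3])))
 (TT.l (Ty.relL (nat_lit 0) [nat_lit 6, nat_lit 0, nat_lit 6])))
 (TT.n (TT.l (Ty.relL (nat_lit 2) [nat_lit 1, nat_lit 2, nat_lit 1, nat_lit 2, nat_lit 1]))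
 (TT.l (Ty.relL (nat_lit 1) [nat_lit 4, nat_lit 1, nat_lit 4])))))
 (TT.n (TT.n (TT.n (TT.n (TT.l (Ty.relL (nat_lit 1) [nat_lit 3, nat_lit 1, nat_lit 3]))
 (TT.l (Ty.relL (nat_lit 2) [nat_lit 3, nat_lit 2, nat_lit 3, nat_lit 2, nat_lit 3, nat_lit 2, nat_lit 0, nat_lit 3, nat_lit 2, nat_lit 3])))
 (TT.l (Ty.relL (nat_lit 3) [nat_lit 0, nat_lit 3, nat_lit 0])))
 (TT.n (TT.l (Ty.relL (nat_lit 5) [nat_lit 1, nat_lit 5, nat_lit 1]))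
 (TT.l (Ty.relL (nat_lit 4) [nat_lit 0, nat_lit 4, nat_lit 0]))))
 (TT.n (TT.n (TT.n (TT.l (Ty.srel [nat_lit 3, nat_lit 6, nat_lit 3, nat_lit 6, nat_lit 3, nat_lit 6]))
 (TT.l (Ty.relL (nat_lit 2) [nat_lit 0, nat_lit 1, nat_lit 2, nat_lit 0, nat_lit 1, nat_lit 2, nat_lit 4, nat_lit 0, nat_lit 1])))
 (TT.l (Ty.rel5 (nat_lit 5) (nat_lit 6) (nat_lit 4) (nat_lit 5) (nat_lit 6))))
 (TT.n (TT.l (Ty.relL (nat_lit 6) [nat_lit 2, nat_lit 3, nat_lit 5, nat_lit 6, nat_lit 2, nat_lit 3, nat_lit 5, nat_lit 6, nat_lit 2, nat_lit 3, nat_lit 5, nat_lit 6, nat_lit 2, nat_lit 3, nat_lit 5]))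
 (TT.l (Ty.relL (nat_lit 3) [nat_lit 1, nat_lit 3, nat_lit 1]))))))))
noncomputable def C : Cert where
  tabs := [tab0, tab1, tab2, tab3, tab4, tab5, tab6, tab7, tab8, tab9, tab10, tab11, tab12, tab13, tab14, tab15, tab16]
  tts := [ty0, ty1, ty2, ty3, ty4, ty5, ty6, ty7]
  k := nat_lit 8
  base := nat_lit 83
  mJ := nat_lit 65280
  mR := nat_lit 255
  W := nat_lit 32
  mA := nat_lit 16777215
  mI := nat_lit 65535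
  S := nat_lit 24
  mC := nat_lit 255
  nc := nat_lit 7
  lo := nat_lit 256
  live := nat_lit 50236
  hi1 := nat_lit 50701
  AW := nat_lit 22
  mAW := nat_lit 4194303
def il : List ℕ := [0, 1, 2, 3, 4, 5, 6]
def rels : List (List ℕ) := [[0, 1, 0, 1, 0, 1, 0, 1],
  [0, 2, 0, 2],
  [0, 3, 0, 3],
  [0, 4, 0, 4],
  [0, 5, 0, 5],
  [0, 6, 0, 6],
  [1, 2, 1, 2, 1, 2],
  [1, 3, 1, 3],
  [1, 4, 1, 4],
  [1, 5, 1, 5],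
  [1, 6, 1, 6],
  [2, 3, 2, 3, 2, 3, 2, 3, 2, 3, 2, 3, 2, 3, 2, 3, 2, 3, 2, 3],
  [2, 4, 2, 4],
  [2, 5, 2, 5],
  [2, 6, 2, 6],
  [3, 4, 3, 4, 3, 4],
  [3, 5, 3, 5, 3, 5],
  [3, 6, 3, 6, 3, 6],
  [4, 5, 4, 5],
  [4, 6, 4, 6],
  [5, 6, 5, 6, 5, 6, 5, 6],
  [4, 6, 5, 6, 5],
  [4, 2, 1, 0, 2, 1, 0, 2, 1, 0],
  [0, 3, 2, 3, 2, 3, 2, 3, 2, 3, 2],
  [2, 3, 5, 6, 2, 3, 5, 6, 2, 3, 5, 6, 2, 3, 5, 6]]
def subs : List (List ℕ) := [[0],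
  [2],
  [3],
  [4],
  [5],
  [6]]
theorem valid : C.valid il rels subs = true := by decide +kernel
end CfH6.HeT1
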